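import Mathlib.Algebra.Category.ModuleCat.Sheaf.ChangeOfRings
import Mathlib.Algebra.Category.ModuleCat.Sheaf.Colimits
import Mathlib.Algebra.Category.ModuleCat.Sheaf.Limits
import Mathlib.Algebra.Category.ModuleCat.Presheaf.Colimits
import Mathlib.Algebra.Category.Grp.Colimits
import Mathlib.Algebra.Category.Grp.FilteredColimits
import Mathlib.CategoryTheory.Sites.LocallySurjective
import Mathlib.CategoryTheory.Sites.LocallyBijective
import Mathlib.CategoryTheory.Sites.Equivalence
import Groth.Prelude.Def_ModSite

/-! # The underlying abelian sheaf of a sheaf of modules commutes with limits and colimits -/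

universe u

open CategoryTheory CategoryTheory.Limits

namespace GrothLib.RestrScal25

variable {C : Type u} [SmallCategory C] {J : GrothendieckTopology C} (R : Sheaf J RingCat.{u})

theorem toSheaf_preservesLimits :
    PreservesLimitsOfSize.{u, u} (SheafOfModules.toSheaf.{u} R) := by
  have : PreservesLimitsOfSize.{u, u} (SheafOfModules.toSheaf.{u} R ⋙ sheafToPresheaf J AddCommGrpCat.{u}) :=
    inferInstanceAs (PreservesLimitsOfSize.{u, u} (SheafOfModules.forget.{u} R ⋙ PresheafOfModules.toPresheaf R.obj))
  exact ⟨fun {K} _ => preservesLimitsOfShape_of_reflects_of_preserves _ (sheafToPresheaf J AddCommGrpCat.{u})⟩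

theorem toSheaf_preservesColimits :
    PreservesColimitsOfSize.{u, u} (SheafOfModules.toSheaf.{u} R) := by
  refine ⟨fun {K} _ => ⟨fun {F} => ?_⟩⟩
  let a := PresheafOfModules.sheafification.{u} (𝟙 R.obj)
  let e : (F ⋙ SheafOfModules.forget R) ⋙ a ≅ F :=
    Functor.isoWhiskerLeft F (asIso (PresheafOfModules.sheafificationAdjunction (𝟙 R.obj)).counit)
  have : a.IsLeftAdjoint := (PresheafOfModules.sheafificationAdjunction (𝟙 R.obj)).isLeftAdjoint
  have : (presheafToSheaf J AddCommGrpCat.{u}).IsLeftAdjoint :=
    (sheafificationAdjunction J AddCommGrpCat.{u}).isLeftAdjoint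
  suffices PreservesColimit ((F ⋙ SheafOfModules.forget R) ⋙ a) (SheafOfModules.toSheaf.{u} R) from
    preservesColimit_of_iso_diagram _ e
  refine preservesColimit_of_preserves_colimit_cocone
    (isColimitOfPreserves a (colimit.isColimit (F ⋙ SheafOfModules.forget R))) ?_
  exact IsColimit.mapCoconeEquiv (PresheafOfModules.sheafificationCompToSheaf.{u} (𝟙 R.obj)).symm
    (isColimitOfPreserves (PresheafOfModules.toPresheaf R.obj ⋙ presheafToSheaf J AddCommGrpCat.{u})
      (colimit.isColimit (F ⋙ SheafOfModules.forget R)))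

variable {R} {R' : Sheaf J RingCat.{u}} (φ : R ⟶ R')

theorem restrictScalars_preservesLimits :
    PreservesLimitsOfSize.{u, u} (SheafOfModules.restrictScalars.{u} φ) := by
  have := toSheaf_preservesLimits R
  have : PreservesLimitsOfSize.{u, u} (SheafOfModules.restrictScalars.{u} φ ⋙ SheafOfModules.toSheaf.{u} R) :=
    toSheaf_preservesLimits R'
  refine ⟨fun {K} _ => ?_⟩
  have : ReflectsLimitsOfShape K (SheafOfModules.toSheaf.{u} R) :=
    reflectsLimitsOfShape_of_reflectsIsomorphisms
  exact preservesLimitsOfShape_of_reflects_of_preserves _ (SheafOfModules.toSheaf.{u} R)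

theorem restrictScalars_preservesColimits :
    PreservesColimitsOfSize.{u, u} (SheafOfModules.restrictScalars.{u} φ) := by
  have := toSheaf_preservesColimits R
  have : PreservesColimitsOfSize.{u, u} (SheafOfModules.restrictScalars.{u} φ ⋙ SheafOfModules.toSheaf.{u} R) :=
    toSheaf_preservesColimits R'
  refine ⟨fun {K} _ => ?_⟩
  have : ReflectsColimitsOfShape K (SheafOfModules.toSheaf.{u} R) :=
    reflectsColimitsOfShape_of_reflectsIsomorphisms
  exact preservesColimitsOfShape_of_reflects_of_preserves _ (SheafOfModules.toSheaf.{u} R)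

theorem restrictScalars_reflectsIso :
    (SheafOfModules.restrictScalars.{u} φ).ReflectsIsomorphisms := by
  have : (SheafOfModules.restrictScalars.{u} φ ⋙ SheafOfModules.toSheaf.{u} R).ReflectsIsomorphisms :=
    inferInstanceAs (SheafOfModules.toSheaf.{u} R').ReflectsIsomorphisms
  exact reflectsIsomorphisms_of_comp _ (SheafOfModules.toSheaf.{u} R)

end GrothLib.RestrScal25
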